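/-
Vanishing elements in abelian sections over `O_{p'}` (helper8).

* `exists_free_point` : an abelian p-group acting coprimely on an abelian group has a regular point
* `exists_vanish` : if `O_p(G) = 1` in a solvable group, the p-singular elements of a normal
  subgroup which is an abelian p-group over a normal p'-subgroup are vanishing elements
* `factorization_le_one`, `factorization_eq_one` : the Sylow order when the vanishing p-singular
  elements have one order, or form one class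
-/
import Cfsg.Agent.Lib.CharApp.Clifford
import Cfsg.Agent.Lib.CharApp.TwoDegrees
import Cfsg.Agent.Lib.BlocksNormal.Cover
import Cfsg.Agent.Lib.Coprime.Invariant
import Cfsg.Agent.Lib.Coprime.Generation
import Cfsg.Agent.Lib.HallHigman.PSolvable
import Cfsg.Agent.Lib.Frobenius.RepAux
import Cfsg.Agent.Lib.Cores.Basic

set_option autoImplicit false
set_option linter.style.haveILetI false

namespace Cfsg.Agent.VanishSection

open Cfsg
open scoped commutatorElement

/-- An abelian `p`-group acting on an abelian group without `p`-torsion has a regular point. -/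
theorem exists_free_point {Q W : Type*} [Group Q] [Finite Q] [CommGroup W] {p : ℕ} [Fact p.Prime]
    (hQp : IsPGroup p Q) (hQc : ∀ a b : Q, a * b = b * a) (φ : Q →* MulAut W)
    (hinj : ∀ (w : W) (k : ℕ), w ^ p ^ k = 1 → w = 1) :
    ∃ η : W, ∀ q : Q, φ q η = η → φ q = 1 := by
  classical
  have hex : ∃ n : ℕ, ∃ η : W, Nat.card {q : Q // φ q η = η} = n := ⟨_, 1, rfl⟩
  obtain ⟨η, hη⟩ := Nat.find_spec hex
  refine ⟨η, fun b hb => ?_⟩
  by_contra hbne
  obtain ⟨w, hw⟩ : ∃ w, φ b w ≠ w := by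
    by_contra h
    push Not at h
    exact hbne (MulEquiv.ext h)
  obtain ⟨k, hk⟩ := hQp b
  set ω := φ b w / w with hωdef
  have hω : φ b ω ≠ ω := fun hfix => by
    have hiter : ∀ j : ℕ, φ (b ^ j) w = w * ω ^ j := by
      intro j
      induction j with
      | zero => simp
      | succ j ih =>
        rw [pow_succ', map_mul, MulAut.mul_apply, ih, map_mul, map_pow, hfix, pow_succ']
        rw [hωdef, ← mul_assoc, mul_div_cancel]
    have h1 := hiter (p ^ k)
    rw [hk, map_one, MulAut.one_apply, left_eq_mul] at h1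
    exact hw (div_eq_one.1 (hinj ω k h1))
  let N : W → W := fun x => ∏ j ∈ Finset.range (p ^ k), φ (b ^ j) x
  have hNmul : ∀ x y, N (x * y) = N x * N y := fun x y => by
    simp only [N, map_mul, Finset.prod_mul_distrib]
  have hNcomm : ∀ (a : Q) (x : W), φ a (N x) = N (φ a x) := fun a x => by
    simp only [N, map_prod]
    refine Finset.prod_congr rfl fun j _ => ?_
    rw [← MulAut.mul_apply, ← MulAut.mul_apply, ← map_mul, ← map_mul, hQc]
  have hNω : N ω = 1 := by
    simp only [N, hωdef, map_div, ← MulAut.mul_apply, ← map_mul, ← pow_succ]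
    rw [Finset.prod_range_div (fun j => φ (b ^ j) w), hk, pow_zero, map_one, MulAut.one_apply,
      div_self']
  have hNη : N η = η ^ p ^ k := by
    have hfix : ∀ j : ℕ, φ (b ^ j) η = η := by
      intro j
      induction j with
      | zero => simp
      | succ j ih => rw [pow_succ', map_mul, MulAut.mul_apply, ih, hb]
    simp only [N, hfix, Finset.prod_const, Finset.card_range]
  have hsub : ∀ a, φ a (η * ω) = η * ω → φ a η = η ∧ φ a ω = ω := by
    intro a ha
    have h1 : φ a (η ^ p ^ k) = η ^ p ^ k := by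
      have h2 := congrArg N ha
      rwa [← hNcomm, hNmul, hNω, mul_one, hNη] at h2
    have h3 : φ a η = η := by
      refine div_eq_one.1 (hinj _ k ?_)
      rw [div_pow, ← map_pow, h1, div_self']
    rw [map_mul, h3, mul_left_cancel_iff] at ha
    exact ⟨h3, ha⟩
  have hlt : Nat.card {q : Q // φ q (η * ω) = η * ω} < Nat.card {q : Q // φ q η = η} := by
    haveI := Fintype.ofFinite Q
    rw [Nat.card_eq_fintype_card, Nat.card_eq_fintype_card]
    refine Fintype.card_lt_of_injective_of_notMem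
      (fun q => ⟨q.1, (hsub q.1 q.2).1⟩) (fun q r h => Subtype.ext (congrArg (fun z => z.1) h))
      (b := ⟨b, hb⟩) ?_
    rintro ⟨q, hq⟩
    have hqb : q.1 = b := congrArg Subtype.val hq
    exact hω (hqb ▸ (hsub q.1 q.2).2)
  exact Nat.find_min hex (hη ▸ hlt) ⟨η * ω, rfl⟩

variable {G : Type*} [Group G] [Finite G] {p : ℕ} [hp : Fact p.Prime]

theorem indFun_eq_zero [Fintype G] (T : Subgroup G) (ψ : T → ℂ) {d : G}
    (h : ∀ x : G, x⁻¹ * d * x ∉ T) : indFun T ψ d = 0 := by
  simp [indFun, Char.extendByZero_not_mem T ψ (h _)]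

/-- Elements of `A` whose `p`-part is nontrivial vanish, when `A` is an abelian `p`-group over a
normal `p'`-subgroup `K` and `O_p(G) = 1`. -/
theorem exists_vanish_aux (hs : Group.IsSolvable G) (hO : pCore p G = ⊥) (K A : Subgroup G)
    [K.Normal] [hAn : A.Normal] (hKA : K ≤ A) (hK : ¬ p ∣ Nat.card K) (hAK : ⁅A, A⁆ ≤ K)
    (hAp : ∀ x ∈ A, ∃ k : ℕ, x ^ p ^ k ∈ K) {d : G} (hd : d ∈ A) (hpd : p ∣ orderOf d)
    (hgen : A ≤ K ⊔ Subgroup.normalClosure {d ^ Nat.card K}) :
    ∃ χ : IrrCharacter G, (χ : G → ℂ) d = 0 := by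
  classical
  haveI := Fintype.ofFinite G
  -- a `p`-element power of `d`
  obtain ⟨k₀, hk₀⟩ := hAp d hd
  set a := d ^ Nat.card K with ha
  have haA : a ∈ A := pow_mem hd _
  have hapow : a ^ p ^ k₀ = 1 := by
    rw [ha, ← pow_mul, mul_comm, pow_mul]
    exact congrArg Subtype.val (pow_card_eq_one' (x := (⟨_, hk₀⟩ : K)))
  have ha1 : a ≠ 1 := fun h => hK (hpd.trans (orderOf_dvd_of_pow_eq_one h))
  -- a Sylow subgroup of `A`
  set P : Sylow p A := default
  set Q : Subgroup G := (P : Subgroup A).map A.subtype with hQ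
  have hQA : Q ≤ A := Subgroup.map_subtype_le _
  have hQp : IsPGroup p Q := P.2.map _
  have hQcop : (Nat.card Q).Coprime (Nat.card K) := by
    obtain ⟨n, hn⟩ := IsPGroup.iff_card.1 hQp
    rw [hn]
    exact ((hp.out.coprime_iff_not_dvd).2 hK).pow_left _
  have hQK : Q ⊓ K = ⊥ := Coprime.inf_eq_bot hQcop
  have hQcomm : ∀ x ∈ Q, ∀ y ∈ Q, x * y = y * x := fun x hx y hy => by
    have h1 : ⁅x, y⁆ ∈ Q ⊓ K :=
      ⟨by show ⁅x, y⁆ ∈ Q; rw [commutatorElement_def]; exact mul_mem (mul_mem (mul_mem hx hy) (inv_mem hx)) (inv_mem hy),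
        hAK (Subgroup.commutator_mem_commutator (hQA hx) (hQA hy))⟩
    rw [hQK, Subgroup.mem_bot] at h1
    exact commutatorElement_eq_one_iff_mul_comm.1 h1
  -- `A = K Q`
  have hKQ : K ⊔ Q = A := by
    refine le_antisymm (sup_le hKA hQA) ?_
    by_contra hne
    have h0 : ((K ⊔ Q).subgroupOf A).index ≠ 1 := fun h => hne (by
      rw [Subgroup.index_eq_one, Subgroup.subgroupOf_eq_top] at h; exact h)
    obtain ⟨r, hr, hrd⟩ := Nat.exists_prime_and_dvd h0
    have h1 : r ∣ (K.subgroupOf A).index :=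
      hrd.trans (Subgroup.index_dvd_of_le (fun y hy => Subgroup.mem_sup_left hy
        : K.subgroupOf A ≤ (K ⊔ Q).subgroupOf A))
    have h2 : r ∣ (P : Subgroup A).index := hrd.trans (Subgroup.index_dvd_of_le (fun x hx => by
      rw [Subgroup.mem_subgroupOf]; exact Subgroup.mem_sup_right ⟨x, hx, rfl⟩))
    haveI : Fact r.Prime := ⟨hr⟩
    haveI : (K.subgroupOf A).Normal := inferInstance
    obtain ⟨y, hy⟩ := exists_prime_orderOf_dvd_card' r (G := A ⧸ K.subgroupOf A)
      (by rwa [← Subgroup.index_eq_card])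
    obtain ⟨x, rfl⟩ := QuotientGroup.mk'_surjective _ y
    obtain ⟨k, hk⟩ := hAp x x.2
    have h3 : r ∣ p ^ k := hy ▸ orderOf_dvd_of_pow_eq_one (by
      rw [← map_pow, QuotientGroup.mk'_apply, QuotientGroup.eq_one_iff, Subgroup.mem_subgroupOf]
      exact hk)
    have h4 : r = p := (Nat.prime_dvd_prime_iff_eq hr hp.out).1 (hr.dvd_of_dvd_pow h3)
    exact P.not_dvd_index (h4 ▸ h2)
  -- `p`-elements of `A` are conjugate into `Q` under `K`
  have hconjQ : ∀ x ∈ A, (∃ k : ℕ, x ^ p ^ k = 1) → ∃ k ∈ K, ∃ q ∈ Q, x = k * q * k⁻¹ := by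
    rintro x hx ⟨k, hk⟩
    have hxp : IsPGroup p (Subgroup.zpowers (⟨x, hx⟩ : A)) := by
      obtain ⟨j, -, hj⟩ := (Nat.dvd_prime_pow hp.out).1
        (orderOf_dvd_of_pow_eq_one (x := (⟨x, hx⟩ : A)) (Subtype.ext hk))
      exact IsPGroup.of_card (by rw [Nat.card_zpowers, hj])
    obtain ⟨R, hR⟩ := hxp.exists_le_sylow
    obtain ⟨g, rfl⟩ := MulAction.exists_smul_eq A P R
    have hg : (g : G) ∈ K ⊔ Q := by rw [hKQ]; exact g.2
    rw [← SetLike.mem_coe, Subgroup.normal_mul] at hg
    obtain ⟨c, hc, q₀, hq₀, hgq⟩ := hg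
    have hxm := hR (Subgroup.mem_zpowers _)
    rw [Sylow.coe_subgroup_smul, Subgroup.mem_pointwise_smul_iff_inv_smul_mem] at hxm
    have hq1 : (g : G)⁻¹ * x * g ∈ Q := ⟨_, hxm, by simp [MulAut.smul_def, MulAut.conj_symm_apply]⟩
    refine ⟨c, hc, q₀ * ((g : G)⁻¹ * x * g) * q₀⁻¹, mul_mem (mul_mem hq₀ hq1) (inv_mem hq₀), ?_⟩
    simp only at hgq
    rw [← hgq]
    group
  -- `M = [K, Q]`
  set M : Subgroup G := ⁅K, Q⁆
  have hQnK : Q ≤ Subgroup.normalizer (K : Set G) := fun x _ => by
    rw [Subgroup.normalizer_eq_top]; trivial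
  have hMK : M ≤ K := Coprime.commutator_le_left' hQnK
  haveI hMn : M.Normal := by
    refine Subgroup.normalizer_eq_top_iff.1 (top_le_iff.1 ?_)
    refine (Sylow.normalizer_sup_eq_top P).ge.trans ?_
    refine sup_le (fun g hg => ?_) (hKQ ▸ sup_le (Subgroup.normalizer_commutator_ge_left K Q)
      (Subgroup.normalizer_commutator_ge_right K Q))
    refine Coprime.mem_normalizer_of_forall fun m hm => ?_
    have hmap : (⁅K, Q⁆).map (MulAut.conj g).toMonoidHom ≤ ⁅K, Q⁆ := by
      rw [Subgroup.map_commutator]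
      refine Subgroup.commutator_mono ?_ ?_
      · rintro _ ⟨y, hy, rfl⟩; exact (inferInstance : K.Normal).conj_mem y hy g
      · rintro _ ⟨y, hy, rfl⟩; exact (Subgroup.mem_normalizer_iff.1 hg y).1 hy
    exact hmap ⟨m, hm, rfl⟩
  -- the elements fixing every linear character of `M`
  let act : G → (M →* ℂˣ) → (M →* ℂˣ) := fun g l =>
    l.comp (MulAut.conjNormal g⁻¹ : MulAut M).toMonoidHom
  have act_one : ∀ l, act 1 l = l := fun l => by ext x; simp [act]
  have act_mul : ∀ g h l, act (g * h) l = act g (act h l) := fun g h l =>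
    MonoidHom.ext fun x => congrArg l (Subtype.ext (by simp [mul_assoc]))
  have act_M : ∀ m ∈ M, ∀ l, act m l = l := fun m hm l => MonoidHom.ext fun x => by
    have : (MulAut.conjNormal m⁻¹ : MulAut M) x = (⟨m, hm⟩ : M)⁻¹ * x * ⟨m, hm⟩ :=
      Subtype.ext (by simp)
    show l ((MulAut.conjNormal m⁻¹ : MulAut M) x) = l x
    rw [this, map_mul, map_mul, map_inv, mul_comm (l ⟨m, hm⟩)⁻¹, mul_assoc, inv_mul_cancel,
      mul_one]
  let L : Subgroup G :=
    { carrier := {g | ∀ l, act g l = l}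
      one_mem' := act_one
      mul_mem' := fun {g h} hg hh l => by rw [act_mul, hh, hg]
      inv_mem' := fun {g} hg l => by
        conv_lhs => rw [← hg l]
        rw [← act_mul, inv_mul_cancel, act_one] }
  haveI hLn : L.Normal := ⟨fun x hx g l => by
    rw [act_mul, act_mul, hx, ← act_mul, mul_inv_cancel, act_one]⟩
  -- the action of `Q`
  let φ : Q →* MulAut (M →* ℂˣ) :=
    { toFun := fun q =>
        { toFun := act q
          invFun := act (q : G)⁻¹
          left_inv := fun l => by rw [← act_mul, inv_mul_cancel, act_one]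
          right_inv := fun l => by rw [← act_mul, mul_inv_cancel, act_one]
          map_mul' := fun l l' => MonoidHom.ext fun x => rfl }
      map_one' := MulEquiv.ext act_one
      map_mul' := fun q r => MulEquiv.ext fun l => act_mul q r l }
  have hMp : ¬ p ∣ Nat.card M := fun h => hK (h.trans (Subgroup.card_dvd_of_le hMK))
  have hinj : ∀ (w : M →* ℂˣ) (k : ℕ), (∀ x, w x ^ p ^ k = 1) → w = 1 := by
    intro w k hk
    refine MonoidHom.ext fun x => orderOf_eq_one_iff.1 (Nat.dvd_one.1 ?_)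
    have h1 : orderOf (w x) ∣ p ^ k := orderOf_dvd_of_pow_eq_one (hk x)
    have h2 : orderOf (w x) ∣ Nat.card M := (orderOf_map_dvd w x).trans (orderOf_dvd_natCard x)
    have h3 : (p ^ k).Coprime (Nat.card M) := ((hp.out.coprime_iff_not_dvd).2 hMp).pow_left _
    exact h3 ▸ Nat.dvd_gcd h1 h2
  obtain ⟨η, hη⟩ := exists_free_point (p := p) hQp
    (fun x y => Subtype.ext (hQcomm x x.2 y y.2)) φ
    (fun w k hk => hinj w k fun x => DFunLike.congr_fun hk x)
  -- `a` moves some linear character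
  have haL : a ∉ L := by
    intro haL
    have hAKL : A ≤ K ⊔ L :=
      hgen.trans (sup_le_sup_left (Subgroup.normalClosure_le_normal (by simpa using haL)) K)
    have hQL : ∀ q ∈ Q, q ∈ L := fun q hq => by
      have h1 : q ∈ K ⊔ L := hAKL (hQA hq)
      rw [← SetLike.mem_coe, Subgroup.mul_normal] at h1
      obtain ⟨c, hc, l, hl, hcl⟩ := h1
      simp only at hcl
      refine Coprime.mem_of_pow_mem_of_mem (K := Q) hq hQcop.symm ?_
      rw [← QuotientGroup.eq_one_iff, QuotientGroup.mk_pow, ← hcl, QuotientGroup.mk_mul,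
        (QuotientGroup.eq_one_iff l).2 hl, mul_one, ← QuotientGroup.mk_pow,
        show c ^ Nat.card K = 1 from congrArg Subtype.val (pow_card_eq_one' (x := (⟨c, hc⟩ : K)))]
      rfl
    -- `Q` is trivial on `M / M'`
    have hMQ : ⁅M, Q⁆ ≤ ⁅M, M⁆ := by
      rw [Subgroup.commutator_le]
      intro m hm q hq
      have hconj : q * m⁻¹ * q⁻¹ ∈ M := hMn.conj_mem _ (inv_mem hm) q
      set u : M := ⟨m, hm⟩ * ⟨q * m⁻¹ * q⁻¹, hconj⟩ with hu
      have hu1 : u ∈ commutator M := by
        by_contra hne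
        obtain ⟨l, hl⟩ := CharApp.TwoDegrees.exists_linear_sep
          (A := Abelianization M) (fun a b => mul_comm a b) (y := Abelianization.of u)
          (fun h => hne ((QuotientGroup.eq_one_iff u).1 h))
        let lu : M →* ℂˣ := (l.comp Abelianization.of).toHomUnits
        have h1 := DFunLike.congr_fun (inv_mem (hQL q hq) lu) (⟨m⁻¹, inv_mem hm⟩ : M)
        have h2 : (MulAut.conjNormal (q⁻¹)⁻¹ : MulAut M) ⟨m⁻¹, inv_mem hm⟩ =
            ⟨q * m⁻¹ * q⁻¹, hconj⟩ := Subtype.ext (by simp)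
        simp only [act, MonoidHom.comp_apply, MulEquiv.coe_toMonoidHom, h2] at h1
        apply hl
        have h3 : lu u = 1 := by
          rw [hu, map_mul, h1, ← map_mul]
          exact (congrArg lu (Subtype.ext (mul_inv_cancel m))).trans (map_one lu)
        simpa [lu] using congrArg Units.val h3
      rw [← Subgroup.map_subtype_commutator]
      refine ⟨u, hu1, ?_⟩
      simp [hu, commutatorElement_def, mul_assoc]
    have hM2 : M ≤ ⁅M, M⁆ := by
      refine le_trans ?_ hMQ
      exact (Coprime.commutator_commutator_eq hQnK hQcop (Or.inr inferInstance)).ge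
    have hM0 : M = ⊥ := by
      by_contra h0
      exact (hM2.trans_lt (Group.IsSolvable.commutator_lt_of_ne_bot h0)).false
    have hKQc : K ≤ Subgroup.centralizer (Q : Set G) :=
      Subgroup.commutator_eq_bot_iff_le_centralizer.1 hM0
    haveI hQn : Q.Normal := by
      refine Subgroup.normalizer_eq_top_iff.1 (top_le_iff.1 ?_)
      refine (Sylow.normalizer_sup_eq_top P).ge.trans (sup_le le_rfl (hKQ ▸ sup_le ?_ ?_))
      · exact hKQc.trans (Subgroup.centralizer_le_normalizer _)
      · exact Subgroup.le_normalizer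
    have hQ1 : Q = ⊥ := le_bot_iff.1 (hO ▸ Cores.le_pCore hQn hQp)
    obtain ⟨c, hc, q, hq, he⟩ := hconjQ a haA ⟨k₀, hapow⟩
    rw [hQ1, Subgroup.mem_bot] at hq
    exact ha1 (by rw [he, hq, mul_one, mul_inv_cancel])
  -- the character
  have hlin : IsIrrCharacter M (fun m => (η m : ℂ)) :=
    Char.isIrrCharacter_of_hom ((Units.coeHom ℂ).comp η)
  haveI := Fintype.ofFinite M
  haveI := Fintype.ofFinite (CharApp.inertia M fun m => (η m : ℂ))
  obtain ⟨χ, hχ⟩ := BlocksNormal.exists_over M (⟨_, hlin⟩ : IrrCharacter M)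
  obtain ⟨ψ, -, hψ, -⟩ := CharApp.exists_correspondent M hlin χ.2 hχ
  refine ⟨χ, hψ ▸ indFun_eq_zero _ _ fun x hx => haL ?_⟩
  have hx' := pow_mem hx (Nat.card K)
  rw [show (x⁻¹ * d * x) ^ Nat.card K = x⁻¹ * a * x by
    rw [ha]; simpa using (conj_pow (a := x⁻¹) (b := d) (i := Nat.card K))] at hx'
  obtain ⟨c, hc, q, hq, he⟩ := hconjQ (x⁻¹ * a * x) (by simpa using hAn.conj_mem a haA x⁻¹)
    ⟨k₀, by
      have := conj_pow (a := x⁻¹) (b := a) (i := p ^ k₀)
      rw [hapow] at this
      simpa using this⟩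
  have hcq : ⁅c, q⁆ ∈ M := Subgroup.commutator_mem_commutator hc hq
  have hML : M ≤ L := fun m hm => act_M m hm
  have hMT : M ≤ CharApp.inertia M fun m => (η m : ℂ) :=
    CharApp.le_inertia M (Char.IsIrrCharacter.isClassFunction hlin)
  have hqT : q ∈ CharApp.inertia M fun m => (η m : ℂ) := by
    have : q = ⁅c, q⁆⁻¹ * (x⁻¹ * a * x) := by rw [he, commutatorElement_def]; group
    rw [this]
    exact mul_mem (inv_mem (hMT hcq)) hx'
  have hfix : φ ⟨q, hq⟩ η = η := MonoidHom.ext fun m => Units.ext (by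
    have := (CharApp.mem_inertia_iff M).1 (inv_mem hqT) m
    show (η ((MulAut.conjNormal (q : G)⁻¹ : MulAut M) m) : ℂ) = η m
    refine (congrArg (fun z : M => (η z : ℂ)) (Subtype.ext ?_)).trans this
    simp)
  have hqL : q ∈ L := fun l => by
    have := DFunLike.congr_fun (hη ⟨q, hq⟩ hfix) l
    simpa [φ] using this
  have hxL : x⁻¹ * a * x ∈ L := by
    rw [he, show c * q * c⁻¹ = ⁅c, q⁆ * q by rw [commutatorElement_def]; group]
    exact mul_mem (hML hcq) hqL
  simpa [mul_assoc] using hLn.conj_mem _ hxL x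

/-- Elements of order divisible by `p` in an abelian `p`-section over a `p'`-core vanish. -/
theorem exists_vanish (hs : Group.IsSolvable G) (hO : pCore p G = ⊥) (K A : Subgroup G) [K.Normal]
    [hAn : A.Normal] (hKA : K ≤ A) (hK : ¬ p ∣ Nat.card K) (hAK : ⁅A, A⁆ ≤ K)
    (hAp : ∀ x ∈ A, ∃ k : ℕ, x ^ p ^ k ∈ K) {d : G} (hd : d ∈ A) (hpd : p ∣ orderOf d) :
    ∃ χ : IrrCharacter G, (χ : G → ℂ) d = 0 := by
  set B := K ⊔ Subgroup.normalClosure {d ^ Nat.card K} with hB
  have hBA : B ≤ A := sup_le hKA (Subgroup.normalClosure_le_normal (by simpa using pow_mem hd _))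
  haveI : B.Normal := Subgroup.sup_normal _ _
  obtain ⟨k, hk⟩ := hAp d hd
  have hdB : d ∈ B := by
    have h1 : d ^ Nat.card K ∈ B :=
      Subgroup.mem_sup_right (Subgroup.subset_normalClosure (Set.mem_singleton _))
    have h2 : d ^ p ^ k ∈ B := Subgroup.mem_sup_left hk
    have hg : Nat.gcd (Nat.card K) (p ^ k) = 1 :=
      (((hp.out.coprime_iff_not_dvd).2 hK).pow_left k).symm
    have e := Nat.gcd_eq_gcd_ab (Nat.card K) (p ^ k)
    rw [hg] at e
    have : d = (d ^ Nat.card K) ^ Nat.gcdA (Nat.card K) (p ^ k) *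
        (d ^ p ^ k) ^ Nat.gcdB (Nat.card K) (p ^ k) := by
      rw [← zpow_natCast d (Nat.card K), ← zpow_natCast d (p ^ k), ← zpow_mul, ← zpow_mul,
        ← zpow_add, ← e, Nat.cast_one, zpow_one]
    rw [this]
    exact mul_mem (zpow_mem h1 _) (zpow_mem h2 _)
  exact exists_vanish_aux hs hO K B le_sup_left hK ((Subgroup.commutator_mono hBA hBA).trans hAK)
    (fun x hx => hAp x (hBA hx)) hdB hpd le_rfl

theorem exists_irr_not_ker {z : G} (hz : z ≠ 1) :
    ∃ χ : IrrCharacter G, (χ : G → ℂ) z ≠ (χ : G → ℂ) 1 := by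
  by_contra h
  push Not at h
  exact hz (isConj_one_left.1 ((Char.isConj_iff_irr _ _).2 h))

/-- If a normal subgroup is not in the kernel, the character sums to zero over its cosets. -/
theorem sum_coset_eq_zero (χ : IrrCharacter G) (Z : Subgroup G) [Z.Normal] [Fintype Z]
    (hZ : ¬ Z ≤ Codegree.kerSub χ) (x : G) : ∑ z : Z, (χ : G → ℂ) ((z : G) * x) = 0 := by
  classical
  haveI := Fintype.ofFinite G
  have h0 := Codegree.sum_normal_eq_zero χ Z hZ
  obtain ⟨n, ρ, hρ, hχ⟩ := χ.2
  let f : G → ℂ := fun g => if g ∈ Z then 1 else 0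
  have hf : IsClassFunction G f := fun g h => by
    have hn : Z.Normal := inferInstance
    refine if_congr ⟨fun e => ?_, fun e => hn.conj_mem _ e h⟩ rfl rfl
    simpa [mul_assoc] using hn.conj_mem _ e h⁻¹
  have hsum : ∀ F : G → ℂ, ∑ g, f g * F g = ∑ z : Z, F z := fun F => by
    simp only [f, ite_mul, one_mul, zero_mul]
    rw [← Finset.sum_filter]
    exact Finset.sum_subtype _ (fun g => by simp) _
  have hop := Char.groupSumOp_eq_smul ρ hf
  rw [show ∑ g, f g * ρ.character g = 0 by rw [hsum]; simp only [hχ]; exact h0, zero_div,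
    zero_smul] at hop
  have h1 := congrArg (fun T : Module.End ℂ (Fin n → ℂ) => LinearMap.trace ℂ _ (T * ρ x)) hop
  simp only [zero_mul, map_zero, Char.groupSumOp, Finset.sum_mul, map_sum, smul_mul_assoc,
    map_smul, smul_eq_mul, ← map_mul] at h1
  rw [← hχ, ← h1, ← hsum (fun g => ρ.character (g * x))]
  exact Finset.sum_congr rfl fun g _ => rfl

/-- An abelian `p`-subgroup of `G / K` all of whose non-trivial elements lift to vanishing elements
has order at most `p`, when `p`-singular vanishing powers preserve the order. -/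
theorem card_le_of_vanish (K : Subgroup G) [K.Normal] (hK : ¬ p ∣ Nat.card K) (hK1 : K ≠ ⊥)
    (hord : ∀ (x : G) (j : ℕ), p ∣ orderOf x → p ∣ orderOf (x ^ j) →
      (∃ χ : IrrCharacter G, (χ : G → ℂ) x = 0) → (∃ χ : IrrCharacter G, (χ : G → ℂ) (x ^ j) = 0) →
        orderOf (x ^ j) = orderOf x)
    (E : Subgroup (G ⧸ K)) (hEp : IsPGroup p E) (hEc : ∀ a ∈ E, ∀ b ∈ E, a * b = b * a)
    (hvan : ∀ d : G, (d : G ⧸ K) ∈ E → (d : G ⧸ K) ≠ 1 → p ∣ orderOf d →
      ∃ χ : IrrCharacter G, (χ : G → ℂ) d = 0) :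
    Nat.card E ≤ p := by
  classical
  set A := E.comap (QuotientGroup.mk' K) with hA
  have hEA : Nat.card E ∣ Nat.card A :=
    (Subgroup.map_comap_eq_self_of_surjective (QuotientGroup.mk'_surjective K) E) ▸
      Subgroup.card_map_dvd A (QuotientGroup.mk' K)
  set P : Sylow p A := default
  set Q : Subgroup G := (P : Subgroup A).map A.subtype with hQ
  have hQA : ∀ q ∈ Q, (q : G ⧸ K) ∈ E := fun q hq => (Subgroup.map_subtype_le _ hq : q ∈ A)
  have hQp : IsPGroup p Q := P.2.map _
  have hQcop : (Nat.card Q).Coprime (Nat.card K) := by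
    obtain ⟨n, hn⟩ := IsPGroup.iff_card.1 hQp
    rw [hn]
    exact ((hp.out.coprime_iff_not_dvd).2 hK).pow_left _
  have hQK : Q ⊓ K = ⊥ := Coprime.inf_eq_bot hQcop
  haveI hQc : IsMulCommutative Q := ⟨⟨fun x y => by
    have h1 : ⁅(x : G), (y : G)⁆ ∈ Q ⊓ K := ⟨(⁅x, y⁆ : Q).2, by
      show ⁅(x : G), (y : G)⁆ ∈ K
      rw [← QuotientGroup.eq_one_iff, ← QuotientGroup.mk'_apply, map_commutatorElement,
        commutatorElement_eq_one_iff_mul_comm]
      exact hEc _ (hQA x x.2) _ (hQA y y.2)⟩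
    rw [hQK, Subgroup.mem_bot] at h1
    exact Subtype.ext (commutatorElement_eq_one_iff_mul_comm.1 h1)⟩⟩
  have hsing : ∀ q ∈ Q, q ≠ 1 → p ∣ orderOf q ∧ (q : G ⧸ K) ≠ 1 := by
    intro q hq hq1
    refine ⟨?_, fun h => hq1 ?_⟩
    · obtain ⟨k, hk⟩ := hQp ⟨q, hq⟩
      obtain ⟨j, -, hj⟩ := (Nat.dvd_prime_pow hp.out).1 (orderOf_dvd_of_pow_eq_one hk)
      rw [Subgroup.orderOf_mk] at hj
      rw [hj]
      exact dvd_pow_self p fun h => hq1 (orderOf_eq_one_iff.1 (by rw [hj, h, pow_zero]))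
    · have : q ∈ Q ⊓ K := ⟨hq, (QuotientGroup.eq_one_iff q).1 h⟩
      rwa [hQK, Subgroup.mem_bot] at this
  have hvQ : ∀ q ∈ Q, q ≠ 1 → ∃ χ : IrrCharacter G, (χ : G → ℂ) q = 0 := fun q hq hq1 =>
    hvan q (hQA q hq) (hsing q hq hq1).2 (hsing q hq hq1).1
  have hQord : ∀ q ∈ Q, q ≠ 1 → orderOf q = p := by
    intro q hq hq1
    refine orderOf_eq_prime ?_ hq1
    by_contra hne
    have hm := pow_mem hq p
    have h1 := hord q p (hsing q hq hq1).1 (hsing _ hm hne).1 (hvQ q hq hq1) (hvQ _ hm hne)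
    rw [orderOf_pow' q hp.out.ne_zero, Nat.gcd_eq_right (hsing q hq hq1).1] at h1
    exact (Nat.div_lt_self (orderOf_pos q) hp.out.one_lt).ne h1
  have hcyc : IsCyclic Q := by
    by_contra hncyc
    have hQn : Q ≤ Subgroup.normalizer (K : Set G) := fun x _ => by
      rw [Subgroup.normalizer_eq_top]; trivial
    refine hK1 (le_bot_iff.1 (Coprime.le_of_noncyclic hncyc hQn hQcop fun q hq hq1 => ?_))
    rintro k ⟨hk, hkq⟩
    rw [Subgroup.mem_bot]
    have hc : Commute q k := (Subgroup.mem_centralizer_singleton_iff.1 hkq).symm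
    have hcop : (orderOf q).Coprime (orderOf k) := by
      rw [hQord q hq hq1, hp.out.coprime_iff_not_dvd]
      exact fun h => hK (h.trans (Subgroup.orderOf_dvd_natCard K hk))
    have ho := hc.orderOf_mul_eq_mul_orderOf_of_coprime hcop
    have him : ((q * k : G) : G ⧸ K) = q := by
      rw [QuotientGroup.mk_mul, (QuotientGroup.eq_one_iff k).2 hk, mul_one]
    have hp1 : p ∣ orderOf (q * k) := ho ▸ (hsing q hq hq1).1.trans (dvd_mul_right _ _)
    have hv1 := hvan (q * k) (him ▸ hQA q hq) (him ▸ (hsing q hq hq1).2) hp1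
    have hpw : (q * k) ^ orderOf k = q ^ orderOf k := by
      rw [hc.mul_pow, pow_orderOf_eq_one, mul_one]
    have hoq : orderOf (q ^ orderOf k) = orderOf q := Nat.Coprime.orderOf_pow hcop
    have hq2 : q ^ orderOf k ≠ 1 := fun h => hq1 (orderOf_eq_one_iff.1 (by
      rw [← hoq, h, orderOf_one]))
    have h1 := hord (q * k) (orderOf k) hp1 (hpw ▸ (hsing _ (pow_mem hq _) hq2).1) hv1
      (hpw ▸ hvQ _ (pow_mem hq _) hq2)
    rw [hpw, hoq, ho] at h1
    exact orderOf_eq_one_iff.1 ((mul_eq_left₀ (orderOf_pos q).ne').1 h1.symm)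
  have hQcard : Nat.card Q ∣ p := by
    obtain ⟨q, hq⟩ := IsCyclic.exists_ofOrder_eq_natCard (α := Q)
    rw [← hq, ← Subgroup.orderOf_coe]
    by_cases h : (q : G) = 1
    · rw [h, orderOf_one]; exact one_dvd _
    · rw [hQord q q.2 h]
  obtain ⟨n, hn⟩ := IsPGroup.iff_card.1 hEp
  refine Nat.le_of_dvd hp.out.pos (dvd_trans ?_ hQcard)
  rw [hn, hQ, Subgroup.card_map_of_injective A.subtype_injective, P.card_eq_multiplicity]
  exact pow_dvd_pow p ((hp.out.pow_dvd_iff_le_factorization Nat.card_pos.ne').1 (hn ▸ hEA))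

/-- `|G|_p ≤ p` if `O_p(G) = 1` and taking `p`-singular powers of `p`-singular vanishing elements does
not lower the order as long as they still vanish. -/
theorem factorization_le_one (hs : Group.IsSolvable G) (hO : pCore p G = ⊥)
    (hord : ∀ (x : G) (j : ℕ), p ∣ orderOf x → p ∣ orderOf (x ^ j) →
      (∃ χ : IrrCharacter G, (χ : G → ℂ) x = 0) → (∃ χ : IrrCharacter G, (χ : G → ℂ) (x ^ j) = 0) →
        orderOf (x ^ j) = orderOf x) :
    (Nat.card G).factorization p ≤ 1 := by
  classical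
  by_cases hpG : p ∣ Nat.card G
  swap
  · rw [Nat.factorization_eq_zero_of_not_dvd hpG]; exact zero_le_one
  set K := pPrimeCore p G with hKdef
  haveI hKn : K.Normal := Subgroup.sSup_normal _ fun _ h => h.1
  have hK : ¬ p ∣ Nat.card K := Cores.not_dvd_card_pPrimeCore
  have hK1 : K ≠ ⊥ := fun h => by
    have h1 : Subgroup.centralizer (pCore p G : Set G) ≤ pCore p G :=
      Solvable.centralizer_pCore_le_of_isSolvable h
    rw [hO] at h1
    have h2 : (⊤ : Subgroup G) ≤ ⊥ := fun x _ => h1 (Subgroup.mem_centralizer_iff.2 fun y hy => by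
      rw [Subgroup.coe_bot, Set.mem_singleton_iff] at hy; simp [hy])
    rw [← Subgroup.card_top, le_bot_iff.1 h2, Subgroup.card_bot] at hpG
    exact hp.out.one_lt.ne' (Nat.dvd_one.1 hpG)
  have hcard : Nat.card G = Nat.card (G ⧸ K) * Nat.card K :=
    Subgroup.card_eq_card_quotient_mul_card_subgroup K
  have hpQ : p ∣ Nat.card (G ⧸ K) := ((hp.out.dvd_mul).1 (hcard ▸ hpG)).resolve_right hK
  set D := pCore p (G ⧸ K) with hD
  haveI hDn : D.Normal := Subgroup.sSup_normal _ fun _ h => h.1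
  have hDp : IsPGroup p D := Cores.isPGroup_pCore p _
  have hCD : Subgroup.centralizer (D : Set (G ⧸ K)) ≤ D :=
    Solvable.centralizer_pCore_le_of_isSolvable (Cores.pPrimeCore_quotient_self p)
  have hD1 : D ≠ ⊥ := fun h => by
    have h1 : (⊤ : Subgroup (G ⧸ K)) ≤ ⊥ := h ▸ (fun x _ => hCD (by
      rw [h]
      exact Subgroup.mem_centralizer_iff.2 fun y hy => by
        rw [Subgroup.coe_bot, Set.mem_singleton_iff] at hy; simp [hy]))
    have h2 : Nat.card (G ⧸ K) = 1 := by
      rw [← Subgroup.card_top, le_bot_iff.1 h1, Subgroup.card_bot]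
    exact hp.out.one_lt.ne' (Nat.dvd_one.1 (h2 ▸ hpQ))
  haveI : Nontrivial D := (Subgroup.nontrivial_iff_ne_bot _).2 hD1
  set Z := (Subgroup.center D).map D.subtype with hZ
  haveI hZn : Z.Normal := inferInstance
  have hZp : IsPGroup p Z := hDp.to_le (Subgroup.map_subtype_le _)
  have hZ1 : Z ≠ ⊥ := fun h => by
    rw [hZ, Subgroup.map_eq_bot_iff_of_injective _ D.subtype_injective] at h
    exact absurd h ((Subgroup.nontrivial_iff_ne_bot _).1 hDp.center_nontrivial)
  set A := Z.comap (QuotientGroup.mk' K) with hA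
  haveI hAn : A.Normal := hZn.comap _
  have hKA : K ≤ A := fun x hx => by
    rw [hA, Subgroup.mem_comap, QuotientGroup.mk'_apply, (QuotientGroup.eq_one_iff x).2 hx]
    exact one_mem _
  have hAK : ⁅A, A⁆ ≤ K := by
    rw [Subgroup.commutator_le]
    intro x hx y hy
    rw [← QuotientGroup.eq_one_iff, ← QuotientGroup.mk'_apply, map_commutatorElement,
      commutatorElement_eq_one_iff_mul_comm]
    obtain ⟨a, ha, hax⟩ := hx
    obtain ⟨b, -, hby⟩ := hy
    rw [← hax, ← hby, ← map_mul, ← map_mul, Subgroup.mem_center_iff.1 ha b]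
  have hAp : ∀ x ∈ A, ∃ k : ℕ, x ^ p ^ k ∈ K := fun x hx => by
    obtain ⟨k, hk⟩ := hZp ⟨_, hx⟩
    exact ⟨k, (QuotientGroup.eq_one_iff _).1 (by
      simpa using congrArg Subtype.val hk)⟩
  have hZc : ∀ a ∈ Z, ∀ b ∈ Z, a * b = b * a := by
    rintro _ ⟨a, ha, rfl⟩ _ ⟨b, -, rfl⟩
    rw [← map_mul, ← map_mul, Subgroup.mem_center_iff.1 ha b]
  have hZv : ∀ d : G, (d : G ⧸ K) ∈ Z → p ∣ orderOf d → ∃ χ : IrrCharacter G, (χ : G → ℂ) d = 0 :=
    fun d hd hpd => exists_vanish hs hO K A hKA hK hAK hAp hd hpd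
  have hZcard : Nat.card Z = p := by
    refine le_antisymm (card_le_of_vanish K hK hK1 hord Z hZp hZc fun d hd _ => hZv d hd) ?_
    exact Nat.le_of_dvd Nat.card_pos
      ((hZp.card_eq_or_dvd).resolve_left fun h => hZ1 (Subgroup.card_eq_one.1 h))
  -- elements of the second centre vanish
  have hvan : ∀ x : D, x ∉ Subgroup.center D →
      (x : D ⧸ Subgroup.center D) ∈ Subgroup.center (D ⧸ Subgroup.center D) →
      ∀ g : G, (g : G ⧸ K) = x → ∃ χ : IrrCharacter G, (χ : G → ℂ) g = 0 := by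
    intro x hxc hx' g hg
    obtain ⟨y, hy⟩ : ∃ y : D, ¬ y * x = x * y := by
      by_contra h
      push Not at h
      exact hxc (Subgroup.mem_center_iff.2 h)
    have hz : ⁅y, x⁆ ∈ Subgroup.center D := by
      rw [← QuotientGroup.eq_one_iff, ← QuotientGroup.mk'_apply, map_commutatorElement,
        commutatorElement_eq_one_iff_mul_comm]
      exact Subgroup.mem_center_iff.1 hx' _
    set z : G ⧸ K := ((⁅y, x⁆ : D) : G ⧸ K) with hzdef
    have hzZ : z ∈ Z := ⟨_, hz, rfl⟩
    have hz1 : z ≠ 1 := fun h => hy (commutatorElement_eq_one_iff_mul_comm.1 (Subtype.ext h))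
    obtain ⟨χ, hχ⟩ := exists_irr_not_ker hz1
    have hker : ¬ Z ≤ Codegree.kerSub χ := fun h => hχ (h hzZ)
    haveI := Fintype.ofFinite Z
    have hzc : ∀ w : D, ((w : G ⧸ K)) * z = z * w := fun w => by
      rw [hzdef, ← Subgroup.coe_mul, ← Subgroup.coe_mul, Subgroup.mem_center_iff.1 hz w]
    have hconst : ∀ w : Z, (χ : G ⧸ K → ℂ) ((w : G ⧸ K) * x) = (χ : G ⧸ K → ℂ) x := by
      intro w
      have hstep : ∀ u : G ⧸ K, (∀ v : D, (v : G ⧸ K) * u = u * v) →
          (χ : G ⧸ K → ℂ) (u * z * x) = (χ : G ⧸ K → ℂ) (u * x) := fun u hu => by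
        have e : u * z * x = (y : G ⧸ K) * (u * x) * (y : G ⧸ K)⁻¹ := by
          rw [hzdef, commutatorElement_def]
          simp only [Subgroup.coe_mul, InvMemClass.coe_inv]
          calc u * ((y : G ⧸ K) * x * (y : G ⧸ K)⁻¹ * (x : G ⧸ K)⁻¹) * x
              = u * y * x * (y : G ⧸ K)⁻¹ := by group
            _ = _ := by rw [← hu y]; group
        rw [e, TwoClassChar.char_conj χ.2]
      have hpow : ∀ j : ℕ, (χ : G ⧸ K → ℂ) (z ^ j * x) = (χ : G ⧸ K → ℂ) x := by
        intro j
        induction j with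
        | zero => simp
        | succ j ih =>
          rw [pow_succ, hstep _ (fun v => ((show Commute (v : G ⧸ K) z from hzc v).pow_right j).eq), ih]
      have hgen : (w : G ⧸ K) ∈ Subgroup.zpowers z := by
        have : Subgroup.zpowers z = Z := Subgroup.eq_of_le_of_card_ge (Subgroup.zpowers_le.2 hzZ) (by
          rw [hZcard, Nat.card_zpowers, orderOf_eq_prime (p := p) ?_ hz1]
          rw [← hZcard]; exact congrArg Subtype.val (pow_card_eq_one' (x := (⟨z, hzZ⟩ : Z))))
        rw [this]; exact w.2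
      obtain ⟨j, -, hj⟩ := (IsOfFinOrder.mem_zpowers_iff_mem_range_orderOf (isOfFinOrder_of_finite z)).1
        hgen |> Finset.mem_image.1
      rw [← hj, hpow]
    have hzero := sum_coset_eq_zero χ Z hker (x : G ⧸ K)
    simp only [hconst, Finset.sum_const, Finset.card_univ, nsmul_eq_mul, mul_eq_zero,
      Fintype.card_eq_nat_card, hZcard, Nat.cast_eq_zero, hp.out.ne_zero, false_or] at hzero
    exact ⟨Codegree.inflate K χ, by rw [Codegree.inflate_apply, hg, hzero]⟩
  -- `D` is abelian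
  have hDab : Subgroup.center D = ⊤ := by
    by_contra hne
    haveI : Nontrivial (D ⧸ Subgroup.center D) := by
      rw [← Finite.one_lt_card_iff_nontrivial, ← Subgroup.index_eq_card]
      exact Subgroup.one_lt_index_of_ne_top hne
    haveI := (hDp.to_quotient (Subgroup.center D)).center_nontrivial
    obtain ⟨⟨x', hx'⟩, hx1⟩ := exists_ne (1 : Subgroup.center (D ⧸ Subgroup.center D))
    obtain ⟨x, rfl⟩ := QuotientGroup.mk'_surjective _ x'
    have hxc : x ∉ Subgroup.center D := fun h => hx1 (Subtype.ext ((QuotientGroup.eq_one_iff x).2 h))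
    set E₀ : Subgroup D := Subgroup.center D ⊔ Subgroup.zpowers x with hE₀
    have hE₀c : E₀ ≤ Subgroup.centralizer (E₀ : Set D) :=
      sup_le (Subgroup.center_le_centralizer _) (Subgroup.le_centralizer_iff.1
        (sup_le (Subgroup.center_le_centralizer _) (Subgroup.le_centralizer (Subgroup.zpowers x))))
    have hE₀z : ∀ w ∈ E₀, (w : D ⧸ Subgroup.center D) ∈ Subgroup.center (D ⧸ Subgroup.center D) := by
      show E₀ ≤ (Subgroup.center (D ⧸ Subgroup.center D)).comap (QuotientGroup.mk' _)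
      refine sup_le (fun w hw => ?_) (Subgroup.zpowers_le.2 hx')
      rw [Subgroup.mem_comap, QuotientGroup.mk'_apply, (QuotientGroup.eq_one_iff w).2 hw]
      exact one_mem _
    have hle := card_le_of_vanish K hK hK1 hord (E₀.map D.subtype)
      (hDp.to_le (Subgroup.map_subtype_le _))
      (by
        rintro _ ⟨a, ha, rfl⟩ _ ⟨b, hb, rfl⟩
        rw [← map_mul, ← map_mul, (Subgroup.mem_centralizer_iff.1 (hE₀c hb) a ha)])
      (by
        rintro d ⟨w, hw, hwd⟩ - hpd
        by_cases hwc : w ∈ Subgroup.center D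
        · exact hZv d ⟨w, hwc, hwd⟩ hpd
        · exact hvan w hwc (hE₀z w hw) d hwd.symm)
    rw [Subgroup.card_map_of_injective D.subtype_injective, ← hZcard, hZ,
      Subgroup.card_map_of_injective D.subtype_injective] at hle
    refine hxc ?_
    rw [Subgroup.eq_of_le_of_card_ge (le_sup_left : Subgroup.center D ≤ E₀) hle]
    exact Subgroup.mem_sup_right (Subgroup.mem_zpowers x)
  have hDcard : Nat.card D = p := by
    rw [← hZcard, hZ, Subgroup.card_map_of_injective D.subtype_injective, hDab, Subgroup.card_top]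
  haveI : IsCyclic D := isCyclic_of_prime_card hDcard
  set φ : G ⧸ K →* MulAut D := MulAut.conjNormal
  have hker : φ.ker ≤ D := fun x hx => hCD (Subgroup.mem_centralizer_iff.2 fun d hd => by
    have h2 : x * d * x⁻¹ = d := by
      have h1 := congrArg (fun f : MulAut D => ((f ⟨d, hd⟩ : D) : G ⧸ K)) (MonoidHom.mem_ker.1 hx)
      simpa [φ] using h1
    exact (mul_inv_eq_iff_eq_mul.1 h2).symm)
  have hrange : Nat.card (φ.range) ∣ p - 1 := by
    have := φ.range.card_subgroup_dvd_card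
    rwa [IsCyclic.card_mulAut, hDcard, Nat.totient_prime hp.out] at this
  have hkc : Nat.card φ.ker ∣ p := hDcard ▸ Subgroup.card_dvd_of_le hker
  have hQc' : Nat.card (G ⧸ K) = Nat.card φ.range * Nat.card φ.ker := by
    rw [← Nat.card_congr (QuotientGroup.quotientKerEquivRange φ).toEquiv,
      ← Subgroup.card_eq_card_quotient_mul_card_subgroup]
  have hr : ¬ p ∣ Nat.card φ.range := fun h => by
    have := Nat.le_of_dvd (by have := hp.out.two_le; omega) (h.trans hrange)
    have := hp.out.two_le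
    omega
  have hkc' : Nat.card φ.ker = p :=
    ((Nat.dvd_prime hp.out).1 hkc).resolve_left fun h => hr (by rwa [hQc', h, mul_one] at hpQ)
  rw [hcard, Nat.factorization_mul (Nat.card_pos.ne') (Nat.card_pos.ne'), hQc',
    Nat.factorization_mul (Nat.card_pos.ne') (Nat.card_pos.ne'), hkc', Finsupp.add_apply,
    Finsupp.add_apply, Nat.factorization_eq_zero_of_not_dvd hr,
    Nat.factorization_eq_zero_of_not_dvd hK, hp.out.factorization_self]

/-- `|G|_p = p` if `O_p(G) = 1` and the vanishing elements of order divisible by `p` form at most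
one class. -/
theorem factorization_eq_one (hs : Group.IsSolvable G) (hO : pCore p G = ⊥) (hpG : p ∣ Nat.card G)
    (huniq : ∀ x y : G, p ∣ orderOf x → p ∣ orderOf y → (∃ χ : IrrCharacter G, (χ : G → ℂ) x = 0) →
      (∃ χ : IrrCharacter G, (χ : G → ℂ) y = 0) → IsConj x y) :
    (Nat.card G).factorization p = 1 := by
  refine le_antisymm (factorization_le_one hs hO fun x j hx hy hvx hvy => ?_)
    (hp.out.factorization_pos_of_dvd Nat.card_pos.ne' hpG)
  obtain ⟨c, hc⟩ := isConj_iff.1 (huniq _ _ hx hy hvx hvy)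
  rw [← hc, ← MulAut.conj_apply, MulEquiv.orderOf_eq]

end Cfsg.Agent.VanishSection
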